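import Mathlib.GroupTheory.Sylow
import Mathlib.GroupTheory.Coset.Card
import Mathlib.GroupTheory.Subgroup.Centralizer
import Mathlib.Data.Set.Card
import Mathlib.Tactic.Group
import Mathlib.GroupTheory.Nilpotent
import Mathlib.GroupTheory.IsSubnormal

/-!
# Small shared lemmas for the local analysis part 5 statements
-/

set_option autoImplicit false

namespace Cfsg.Agent.Lib.LA5.Basic

open Subgroup
open scoped Pointwise

variable {G : Type*} [Group G]

/-- In a finite p-group, a proper subgroup grows in its normalizer. -/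
theorem exists_normalizing_not_mem [Finite G] {p : ℕ} [Fact p.Prime] {H Q : Subgroup G}
    (hQ : IsPGroup p Q) (hlt : H < Q) :
    ∃ x ∈ Q, x ∉ H ∧ x ∈ normalizer (H : Set G) := by
  haveI := hQ.isNilpotent
  have hne : H.subgroupOf Q ≠ ⊤ := by
    intro h
    exact hlt.not_ge (Subgroup.subgroupOf_eq_top.mp h)
  have hlt' := Group.normalizerCondition_of_isNilpotent (G := Q) (H.subgroupOf Q) (lt_of_le_of_ne le_top hne)
  obtain ⟨x, hx, hxH⟩ := SetLike.exists_of_lt hlt'
  refine ⟨x, x.2, fun h => hxH (by simpa [mem_subgroupOf] using h), ?_⟩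
  rw [mem_normalizer_iff]
  rw [mem_normalizer_iff] at hx
  intro h
  constructor
  · intro hh
    have := (hx ⟨h, hlt.le hh⟩).mp (by simpa [mem_subgroupOf] using hh)
    simpa [mem_subgroupOf] using this
  · intro hh
    have hhQ : h ∈ Q := by
      have h1 : (x : G) * h * (x : G)⁻¹ ∈ Q := hlt.le hh
      have := Q.mul_mem (Q.mul_mem (Q.inv_mem x.2) h1) x.2
      simpa [mul_assoc] using this
    have := (hx ⟨h, hhQ⟩).mpr (by simpa [mem_subgroupOf] using hh)
    simpa [mem_subgroupOf] using this

/-- A subgroup of a p-group `Q` that equals its normalizer inside `Q` is `Q`. -/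
theorem eq_of_inf_normalizer_eq [Finite G] {p : ℕ} [Fact p.Prime] {H Q : Subgroup G}
    (hQ : IsPGroup p Q) (hle : H ≤ Q) (h : Q ⊓ normalizer (H : Set G) = H) : H = Q := by
  by_contra hne
  obtain ⟨x, hxQ, hxH, hxN⟩ := exists_normalizing_not_mem hQ (lt_of_le_of_ne hle hne)
  exact hxH (h ▸ ⟨hxQ, hxN⟩)

theorem mem_conj_iff {g x : G} {H : Subgroup G} :
    x ∈ H.map (MulAut.conj g).toMonoidHom ↔ g⁻¹ * x * g ∈ H := by
  constructor
  · rintro ⟨y, hy, rfl⟩
    simpa [MulAut.conj_apply, mul_assoc] using hy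
  · intro h
    exact ⟨_, h, by simp [MulAut.conj_apply, mul_assoc]⟩

theorem card_conj (g : G) (H : Subgroup G) :
    Nat.card (H.map (MulAut.conj g).toMonoidHom : Subgroup G) = Nat.card H :=
  (Nat.card_congr (H.equivMapOfInjective _ (MulAut.conj g).injective).toEquiv).symm

theorem conj_eq_self_of_le [Finite G] {g : G} {H : Subgroup G}
    (h : H.map (MulAut.conj g).toMonoidHom ≤ H) : H.map (MulAut.conj g).toMonoidHom = H :=
  Subgroup.eq_of_le_of_card_ge h (card_conj g H).ge

theorem mem_normalizer_iff_conj_eq {g : G} {H : Subgroup G} :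
    g ∈ normalizer (H : Set G) ↔ H.map (MulAut.conj g).toMonoidHom = H := by
  constructor
  · intro hg
    ext x
    rw [mem_conj_iff]
    exact (mem_normalizer_iff''.mp hg x).symm
  · intro hg
    rw [mem_normalizer_iff'']
    intro x
    conv_lhs => rw [← hg]
    exact mem_conj_iff

theorem map_conj_mul (g h : G) (H : Subgroup G) :
    (H.map (MulAut.conj h).toMonoidHom).map (MulAut.conj g).toMonoidHom =
      H.map (MulAut.conj (g * h)).toMonoidHom := by
  ext x
  simp only [mem_conj_iff]
  simp [mul_assoc]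

theorem map_conj_one (H : Subgroup G) : H.map (MulAut.conj (1 : G)).toMonoidHom = H := by
  ext x
  simp [mem_conj_iff]

theorem card_mul_card_inf (A B : Subgroup G) :
    Nat.card ((A : Set G) * (B : Set G) : Set G) * Nat.card ↥(A ⊓ B) = Nat.card A * Nat.card B := by
  have h1 := Subgroup.card_mul_eq_card_subgroup_mul_card_quotient B (A : Set G)
  have e : Nat.card ((QuotientGroup.mk : G → G ⧸ B) '' (A : Set G)) = (B ⊓ A).relIndex A := by
    rw [Subgroup.inf_relIndex_right, Subgroup.relIndex, Subgroup.index_eq_card]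
    refine (Nat.card_eq_of_bijective
      (fun q : A ⧸ B.subgroupOf A => Quotient.liftOn' q
        (fun a => (⟨QuotientGroup.mk (a : G), a, a.2, rfl⟩ :
          ((QuotientGroup.mk : G → G ⧸ B) '' (A : Set G)))) ?_) ⟨?_, ?_⟩).symm
    · intro a b hab
      apply Subtype.ext
      rw [QuotientGroup.leftRel_apply] at hab
      exact QuotientGroup.eq.mpr (by simpa [mem_subgroupOf] using hab)
    · intro q r
      induction q using QuotientGroup.induction_on with | _ a => ?_
      induction r using QuotientGroup.induction_on with | _ b => ?_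
      intro h
      have h' := QuotientGroup.eq.mp (Subtype.ext_iff.mp h)
      exact QuotientGroup.eq.mpr (by simpa [mem_subgroupOf] using h')
    · rintro ⟨_, a, ha, rfl⟩
      exact ⟨QuotientGroup.mk ⟨a, ha⟩, rfl⟩
  have h2 : Nat.card ↥(B ⊓ A) * (B ⊓ A).relIndex A = Nat.card A := by
    rw [← Nat.card_congr (Subgroup.subgroupOfEquivOfLe (inf_le_right : B ⊓ A ≤ A)).toEquiv]
    exact Subgroup.card_mul_index _
  rw [h1, e, inf_comm A B, mul_assoc, mul_comm ((B ⊓ A).relIndex A), h2, mul_comm]

theorem card_mul_le_card_sup_mul_card_inf [Finite G] (A B : Subgroup G) :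
    Nat.card A * Nat.card B ≤ Nat.card ↥(A ⊔ B) * Nat.card ↥(A ⊓ B) := by
  rw [← card_mul_card_inf A B]
  refine Nat.mul_le_mul_right _ (Nat.card_mono (Set.toFinite _) ?_)
  rintro _ ⟨a, ha, b, hb, rfl⟩
  exact mul_mem (Subgroup.mem_sup_left ha) (Subgroup.mem_sup_right hb)

theorem sup_eq_setMul_of_card [Finite G] {A B : Subgroup G}
    (h : Nat.card ↥(A ⊔ B) * Nat.card ↥(A ⊓ B) ≤ Nat.card A * Nat.card B) :
    ((A ⊔ B : Subgroup G) : Set G) = (A : Set G) * (B : Set G) := by
  rw [← card_mul_card_inf A B] at h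
  refine (Set.eq_of_subset_of_ncard_le ?_ ?_ (Set.toFinite _)).symm
  · rintro _ ⟨a, ha, b, hb, rfl⟩
    exact mul_mem (Subgroup.mem_sup_left ha) (Subgroup.mem_sup_right hb)
  · simpa [← Nat.card_coe_set_eq] using Nat.le_of_mul_le_mul_right h Nat.card_pos

theorem centralizer_sup (A B : Subgroup G) :
    centralizer ((A ⊔ B : Subgroup G) : Set G) = centralizer (A : Set G) ⊓ centralizer (B : Set G) := by
  refine le_antisymm (le_inf (centralizer_le (SetLike.coe_subset_coe.mpr le_sup_left))
    (centralizer_le (SetLike.coe_subset_coe.mpr le_sup_right))) ?_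
  rw [le_centralizer_iff]
  exact sup_le (le_centralizer_iff.mp inf_le_left) (le_centralizer_iff.mp inf_le_right)

theorem centralizer_sup_le (A B : Subgroup G) :
    centralizer (A : Set G) ⊔ centralizer (B : Set G) ≤ centralizer ((A ⊓ B : Subgroup G) : Set G) :=
  sup_le (centralizer_le (SetLike.coe_subset_coe.mpr inf_le_left))
    (centralizer_le (SetLike.coe_subset_coe.mpr inf_le_right))

/-- Supermodularity of `|C_V(·)|`. -/
theorem card_inf_centralizer_supermodular [Finite G] (V A B : Subgroup G) :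
    Nat.card ↥(V ⊓ centralizer (A : Set G)) * Nat.card ↥(V ⊓ centralizer (B : Set G)) ≤
      Nat.card ↥(V ⊓ centralizer ((A ⊔ B : Subgroup G) : Set G)) *
        Nat.card ↥(V ⊓ centralizer ((A ⊓ B : Subgroup G) : Set G)) := by
  refine le_trans (card_mul_le_card_sup_mul_card_inf _ _) ?_
  rw [mul_comm]
  refine Nat.mul_le_mul (le_of_eq ?_) (Subgroup.card_le_of_le ?_)
  · rw [centralizer_sup, inf_inf_distrib_left V]
  · exact le_inf (sup_le inf_le_left inf_le_left)
      ((sup_le_sup inf_le_right inf_le_right).trans (centralizer_sup_le A B))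

theorem centralizer_conj (g : G) (H : Subgroup G) :
    centralizer ((H.map (MulAut.conj g).toMonoidHom : Subgroup G) : Set G) =
      (centralizer (H : Set G)).map (MulAut.conj g).toMonoidHom := by
  ext x
  rw [mem_conj_iff, mem_centralizer_iff, mem_centralizer_iff]
  constructor
  · intro h y hy
    have := h (g * y * g⁻¹) (mem_conj_iff.mpr (by simpa [mul_assoc] using hy))
    calc y * (g⁻¹ * x * g) = g⁻¹ * (g * y * g⁻¹ * x) * g := by group
      _ = g⁻¹ * (x * (g * y * g⁻¹)) * g := by rw [this]
      _ = g⁻¹ * x * g * y := by group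
  · intro h y hy
    have := h _ (mem_conj_iff.mp hy)
    calc y * x = g * (g⁻¹ * y * g * (g⁻¹ * x * g)) * g⁻¹ := by group
      _ = g * (g⁻¹ * x * g * (g⁻¹ * y * g)) * g⁻¹ := by rw [this]
      _ = x * y := by group

end Cfsg.Agent.Lib.LA5.Basic
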