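import Cfsg.Agent.Lib.LA5.Basic
import Cfsg.Agent.Lib.PGroups.Omega
import Cfsg.Prelude.Def_PLocal

/-!
# Thompson replacement for abelian subgroups of largest order
-/

set_option autoImplicit false

namespace Cfsg.Agent.Lib.LA5.Replacement

open Subgroup Cfsg.Agent.Lib.LA5.Basic

variable {S : Type*} [Group S]

theorem maxAbelian_nonempty [Finite S] : (Cfsg.maxAbelianSubgroups S).Nonempty := by
  obtain ⟨A, hA, hmax⟩ := Set.exists_max_image {A : Subgroup S | IsMulCommutative A}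
    (fun A => Nat.card A) (Set.toFinite _) ⟨⊥, show IsMulCommutative (⊥ : Subgroup S) from inferInstance⟩
  exact ⟨A, hA, fun B hB => hmax B hB⟩

theorem comm_of {A : Subgroup S} (hA : IsMulCommutative A) {a b : S} (ha : a ∈ A) (hb : b ∈ A) :
    a * b = b * a :=
  congrArg Subtype.val (hA.is_comm.comm (⟨a, ha⟩ : A) ⟨b, hb⟩)

theorem isMulCommutative_sup {A B : Subgroup S} (hA : IsMulCommutative A) (hB : IsMulCommutative B)
    (hAB : ∀ a ∈ A, ∀ b ∈ B, a * b = b * a) : IsMulCommutative ↥(A ⊔ B) := by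
  rw [← le_centralizer_iff_isMulCommutative, centralizer_sup]
  refine sup_le (le_inf ?_ ?_) (le_inf ?_ ?_)
  · exact fun a ha x hx => comm_of hA hx ha
  · exact fun a ha x hx => (hAB a ha x hx).symm
  · exact fun b hb x hx => hAB x hx b hb
  · exact fun b hb x hx => comm_of hB hx hb

/-- A proper invariant subgroup `N` of a normal subgroup `D` of a `p`-group: some element of `D` outside
`N` is centralised modulo `N` by `A`. -/
theorem exists_fixed_mod [Finite S] {p : ℕ} [Fact p.Prime] (hS : IsPGroup p S) {D N A : Subgroup S}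
    (hA : A ≤ normalizer (D : Set S)) (hND : N < D) (hAN : A ≤ normalizer (N : Set S)) (hAD : A ⊓ D ≤ N) :
    ∃ x ∈ D, x ∉ N ∧ ∀ a ∈ A, a * x * a⁻¹ * x⁻¹ ∈ N := by
  have hset : ∀ y ∈ N ⊔ A, ∃ n ∈ N, ∃ a ∈ A, n * a = y := fun y hy => by
    have : y ∈ ((N ⊔ A : Subgroup S) : Set S) := hy
    rw [coe_mul_of_right_le_normalizer_left N A hAN] at this
    obtain ⟨n, hn, a, ha, rfl⟩ := this
    exact ⟨n, hn, a, ha, rfl⟩
  have hQD : (N ⊔ A) ⊓ D ≤ N := by
    rintro y ⟨hy, hyD⟩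
    obtain ⟨n, hn, a, ha, rfl⟩ := hset y hy
    refine mul_mem hn (hAD ⟨ha, ?_⟩)
    have := mul_mem (inv_mem (hND.le hn)) hyD
    rwa [← mul_assoc, inv_mul_cancel, one_mul] at this
  have hlt : N ⊔ A < D ⊔ A := by
    refine lt_of_le_of_ne (sup_le_sup_right hND.le _) fun h => hND.not_ge ?_
    exact fun d hd => hQD ⟨h ▸ mem_sup_left hd, hd⟩
  obtain ⟨y, hy, hyQ, hyN⟩ := exists_normalizing_not_mem (hS.to_subgroup (D ⊔ A)) hlt
  have : y ∈ ((D ⊔ A : Subgroup S) : Set S) := hy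
  rw [coe_mul_of_right_le_normalizer_left D A hA] at this
  obtain ⟨d, hd, a, ha, rfl⟩ := this
  replace hd : d ∈ D := hd
  replace ha : a ∈ A := ha
  have hdN : d ∈ normalizer ((N ⊔ A : Subgroup S) : Set S) := by
    have : a ∈ normalizer ((N ⊔ A : Subgroup S) : Set S) := le_normalizer (mem_sup_right ha)
    simpa [mul_assoc] using mul_mem hyN (inv_mem this)
  refine ⟨d, hd, fun h => hyQ (mul_mem (mem_sup_left h) (mem_sup_right ha)), fun b hb => hQD ⟨?_, ?_⟩⟩
  · have h1 := (mem_normalizer_iff.mp hdN b⁻¹).mp (inv_mem (mem_sup_right hb))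
    have h2 := mul_mem (mem_sup_right (S := N) hb) h1
    simpa [mul_assoc] using h2
  · exact D.mul_mem ((mem_normalizer_iff.mp (hA hb) d).mp hd) (D.inv_mem hd)

/-- Thompson's replacement theorem for abelian subgroups of largest order. -/
theorem exists_replacement [Finite S] {p : ℕ} [Fact p.Prime] (hS : IsPGroup p S) {A D : Subgroup S}
    (hA : A ∈ Cfsg.maxAbelianSubgroups S) (hD : IsMulCommutative D)
    (hAD : A ≤ normalizer (D : Set S)) (hn : ¬ D ≤ normalizer (A : Set S)) :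
    ∃ A' ∈ Cfsg.maxAbelianSubgroups S, A' ≤ normalizer (A : Set S) ∧ A' ≤ A ⊔ D ∧
      A ⊓ D < A' ⊓ D := by
  classical
  obtain ⟨hAc, hAmax⟩ := hA
  have hNlt : D ⊓ normalizer (A : Set S) < D :=
    lt_of_le_of_ne inf_le_left fun h => hn (inf_eq_left.mp h)
  have hAinv : A ≤ normalizer ((D ⊓ normalizer (A : Set S) : Subgroup S) : Set S) := by
    intro a ha
    rw [mem_normalizer_iff_conj_eq, Subgroup.map_inf _ _ _ (MulAut.conj a).injective,
      mem_normalizer_iff_conj_eq.mp (hAD ha),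
      mem_normalizer_iff_conj_eq.mp (le_normalizer (le_normalizer ha))]
  obtain ⟨x, hxD, hxN, hu⟩ := exists_fixed_mod hS hAD hNlt hAinv
    (le_inf inf_le_right (inf_le_left.trans le_normalizer))
  let u : S → S := fun a => a * x * a⁻¹ * x⁻¹
  have huD : ∀ a ∈ A, u a ∈ D := fun a ha => (hu a ha).1
  set M := closure (u '' (A : Set S)) with hM
  have hMN : M ≤ D ⊓ normalizer (A : Set S) :=
    (closure_le _).mpr fun _ ⟨a, ha, h⟩ => h ▸ hu a ha
  have hMD : M ≤ D := hMN.trans inf_le_left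
  set C := A ⊓ centralizer (M : Set S) with hC
  have hMA : ¬ M ≤ A := by
    intro h
    apply hxN
    refine ⟨hxD, mem_normalizer_iff_conj_eq.mpr (conj_eq_self_of_le ?_)⟩
    rintro _ ⟨a, ha, rfl⟩
    have h1 : u a⁻¹ ∈ A := h (subset_closure ⟨_, inv_mem ha, rfl⟩)
    have h2 := mul_mem ha h1
    simpa [u, MulAut.conj_apply, mul_assoc] using h2
  have hkey : ∀ a ∈ A, ∀ b ∈ A, u a * (u b)⁻¹ ∈ A → a⁻¹ * b ∈ centralizer (M : Set S) := by
    intro a ha b hb hab
    rw [hM, Subgroup.centralizer_closure, mem_centralizer_iff]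
    rintro _ ⟨d, hd, rfl⟩
    have hw : a * x * a⁻¹ * (b * x * b⁻¹)⁻¹ ∈ A := by simpa [u, mul_assoc] using hab
    set w := a * x * a⁻¹ * (b * x * b⁻¹)⁻¹ with hwdef
    have hxa : a * x * a⁻¹ ∈ D := (mem_normalizer_iff.mp (hAD ha) x).mp hxD
    have hxb : b * x * b⁻¹ ∈ D := (mem_normalizer_iff.mp (hAD hb) x).mp hxD
    have hwD : w ∈ D := mul_mem hxa (inv_mem hxb)
    have hdw : d * w = w * d := comm_of hAc hd hw
    have had : a * d = d * a := comm_of hAc ha hd
    have hbd : b * d = d * b := comm_of hAc hb hd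
    have e1 : a * x * a⁻¹ = w * (b * x * b⁻¹) := by rw [hwdef]; group
    have e2 : a * (d * x * d⁻¹) * a⁻¹ = w * (b * (d * x * d⁻¹) * b⁻¹) := by
      calc a * (d * x * d⁻¹) * a⁻¹ = (a * d) * x * (a * d)⁻¹ := by group
        _ = (d * a) * x * (d * a)⁻¹ := by rw [had]
        _ = d * (a * x * a⁻¹) * d⁻¹ := by group
        _ = d * (w * (b * x * b⁻¹)) * d⁻¹ := by rw [e1]
        _ = (d * w) * (b * x * b⁻¹) * d⁻¹ := by group
        _ = (w * d) * (b * x * b⁻¹) * d⁻¹ := by rw [hdw]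
        _ = w * ((d * b) * x * (d * b)⁻¹) := by group
        _ = w * ((b * d) * x * (b * d)⁻¹) := by rw [hbd]
        _ = w * (b * (d * x * d⁻¹) * b⁻¹) := by group
    have hubD : b * u d * b⁻¹ ∈ D := (mem_normalizer_iff.mp (hAD hb) _).mp (huD d hd)
    have e3 : a * u d * a⁻¹ = b * u d * b⁻¹ := by
      calc a * u d * a⁻¹ = a * (d * x * d⁻¹) * a⁻¹ * (a * x * a⁻¹)⁻¹ := by simp only [u]; group
        _ = w * (b * (d * x * d⁻¹) * b⁻¹) * (w * (b * x * b⁻¹))⁻¹ := by rw [e2, e1]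
        _ = w * (b * u d * b⁻¹) * w⁻¹ := by simp only [u]; group
        _ = (b * u d * b⁻¹) * w * w⁻¹ := by rw [comm_of hD hwD hubD]
        _ = b * u d * b⁻¹ := by group
    calc u d * (a⁻¹ * b) = a⁻¹ * (a * u d * a⁻¹) * b := by group
      _ = a⁻¹ * (b * u d * b⁻¹) * b := by rw [e3]
      _ = a⁻¹ * b * u d := by group
  have hAM : A ⊓ M ≤ C := le_inf inf_le_left fun y hy z hz => comm_of hD (hMD hz) (hMD hy.2)
  have hMC : M ⊓ C = A ⊓ M := le_antisymm (le_inf (inf_le_right.trans inf_le_left) inf_le_left)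
    (le_inf inf_le_right hAM)
  have hinj : Nat.card (A ⧸ C.subgroupOf A) * Nat.card ↥(A ⊓ M) ≤ Nat.card M := by
    rw [← Nat.card_prod]
    refine Nat.card_le_card_of_injective (fun q => (⟨u (q.1.out : A) * (q.2 : S),
      mul_mem (subset_closure ⟨_, q.1.out.2, rfl⟩) q.2.2.2⟩ : M)) ?_
    rintro ⟨q, m⟩ ⟨r, n⟩ h
    have h' : u (q.out : A) * (m : S) = u (r.out : A) * (n : S) := congrArg Subtype.val h
    have hq : q = r := by
      rw [← QuotientGroup.out_eq' q, ← QuotientGroup.out_eq' r, QuotientGroup.eq]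
      show ((q.out⁻¹ * r.out : A) : S) ∈ C
      refine ⟨SetLike.coe_mem _, hkey _ q.out.2 _ r.out.2 ?_⟩
      have hnm : (n : S) * (m : S)⁻¹ ∈ A := mul_mem n.2.1 (inv_mem m.2.1)
      have e : u (q.out : A) * (u (r.out : A))⁻¹
          = u (r.out : A) * ((n : S) * (m : S)⁻¹) * (u (r.out : A))⁻¹ := by
        have h4 : u (q.out : A) = u (r.out : A) * ((n : S) * (m : S)⁻¹) := by
          rw [← mul_assoc, ← h', mul_inv_cancel_right]
        exact congrArg (· * (u (r.out : A))⁻¹) h4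
      rw [e, comm_of hD (huD _ r.out.2) (hMD (mul_mem n.2.2 (inv_mem m.2.2))), mul_inv_cancel_right]
      exact hnm
    subst hq
    exact Prod.ext rfl (Subtype.ext (mul_left_cancel h'))
  have hcard : Nat.card A ≤ Nat.card ↥(M ⊔ C) := by
    have h1 := card_mul_le_card_sup_mul_card_inf M C
    rw [hMC] at h1
    have h2 : Nat.card (A ⧸ C.subgroupOf A) * Nat.card C = Nat.card A := by
      rw [← Nat.card_congr (subgroupOfEquivOfLe (inf_le_left : C ≤ A)).toEquiv]
      exact (card_eq_card_quotient_mul_card_subgroup _).symm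
    refine Nat.le_of_mul_le_mul_right (c := Nat.card ↥(A ⊓ M)) ?_ Nat.card_pos
    calc Nat.card A * Nat.card ↥(A ⊓ M)
        = Nat.card (A ⧸ C.subgroupOf A) * Nat.card ↥(A ⊓ M) * Nat.card C := by rw [← h2]; ring
      _ ≤ Nat.card M * Nat.card C := Nat.mul_le_mul_right _ hinj
      _ ≤ _ := h1
  have hAC : IsMulCommutative ↥(M ⊔ C) := by
    refine isMulCommutative_sup ⟨⟨fun a b => Subtype.ext (comm_of hD (hMD a.2) (hMD b.2))⟩⟩
      ⟨⟨fun a b => Subtype.ext (comm_of hAc a.2.1 b.2.1)⟩⟩ fun m hm c hc => hc.2 m hm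
  refine ⟨M ⊔ C, ⟨hAC, fun B hB => (hAmax B hB).trans hcard⟩,
    sup_le (hMN.trans inf_le_right) (inf_le_left.trans le_normalizer),
    sup_le (hMD.trans le_sup_right) (inf_le_left.trans le_sup_left), ?_⟩
  refine lt_of_le_not_ge (fun y hy => ⟨mem_sup_right ⟨hy.1, fun z hz => comm_of hD (hMD hz) hy.2⟩, hy.2⟩) ?_
  intro h
  exact hMA fun m hm => (h ⟨mem_sup_left hm, hMD hm⟩).1

end Cfsg.Agent.Lib.LA5.Replacement
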