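import Cfsg.Agent.Lib.LA5.Replacement
import Cfsg.Prelude.Def_DStar

/-!
# Basic properties of `D*(S)`
-/

set_option autoImplicit false

namespace Cfsg.Agent.Lib.LA5.DStar

open scoped commutatorElement
open Subgroup Cfsg.Agent.Lib.LA5.Basic Cfsg.Agent.Lib.LA5.Replacement

variable {S : Type*} [Group S]

/-- If the commutators of an abelian `A` with `x` are centralised by `A` and `x`, then `⟨A, x⟩` has class two. -/
theorem class_two {A : Subgroup S} (hA : IsMulCommutative A) {x : S}
    (h1 : ∀ a ∈ A, ∀ b ∈ A, ⁅a, x⁆ * b = b * ⁅a, x⁆) (h2 : ∀ a ∈ A, ⁅a, x⁆ * x = x * ⁅a, x⁆) :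
    ⁅⁅A ⊔ zpowers x, A ⊔ zpowers x⁆, A ⊔ zpowers x⁆ = ⊥ := by
  set T := A ⊔ zpowers x with hT
  rw [commutator_eq_bot_iff_le_centralizer]
  have hAT : A ≤ T := le_sup_left
  have hxT : x ∈ T := mem_sup_right (mem_zpowers x)
  have hgen : ∀ a ∈ A, ⁅a, x⁆ ∈ centralizer (T : Set S) := by
    intro a ha
    rw [hT, centralizer_sup]
    refine ⟨fun b hb => (h1 a ha b hb).symm, ?_⟩
    rw [zpowers_eq_closure, centralizer_closure]
    show _ ∈ centralizer _
    rw [mem_centralizer_iff]
    rintro y rfl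
    exact (h2 a ha).symm
  let f := QuotientGroup.mk' (center T)
  have hc : ∀ g h : T, ((⁅g, h⁆ : T) : S) ∈ centralizer (T : Set S) → Commute (f g) (f h) := by
    intro g h hgh
    rw [← commutatorElement_eq_one_iff_commute, ← map_commutatorElement]
    refine (QuotientGroup.eq_one_iff _).mpr (mem_center_iff.mpr fun y => Subtype.ext ?_)
    exact hgh (y : S) y.2
  let K : Subgroup T := A.subgroupOf T ⊔ zpowers ⟨x, hxT⟩
  have hKtop : K = ⊤ := by
    apply Subgroup.map_injective T.subtype_injective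
    rw [Subgroup.map_sup, MonoidHom.map_zpowers, subgroupOf_map_subtype, inf_eq_left.mpr hAT,
      ← MonoidHom.range_eq_map, Subgroup.range_subtype]
    rfl
  have hKc : IsMulCommutative ↥(K.map f) := by
    rw [Subgroup.map_sup]
    refine isMulCommutative_sup ?_ ?_ ?_
    · refine ⟨⟨?_⟩⟩
      rintro ⟨_, a, ha, rfl⟩ ⟨_, b, hb, rfl⟩
      apply Subtype.ext
      refine hc a b ?_
      have : ((⁅a, b⁆ : T) : S) = 1 := by
        show ⁅(a : S), (b : S)⁆ = 1
        rw [commutatorElement_eq_one_iff_mul_comm]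
        exact comm_of hA ha hb
      rw [this]
      exact one_mem _
    · rw [MonoidHom.map_zpowers]
      infer_instance
    · rintro _ ⟨a, ha, rfl⟩ y hy
      rw [MonoidHom.map_zpowers] at hy
      obtain ⟨k, rfl⟩ := mem_zpowers_iff.mp hy
      exact ((hc a ⟨x, hxT⟩ (hgen _ ha)).zpow_right k).eq
  rw [commutator_le]
  intro g hg h hh
  rw [hKtop] at hKc
  have hcomm : Commute (f ⟨g, hg⟩) (f ⟨h, hh⟩) :=
    comm_of hKc ⟨_, mem_top _, rfl⟩ ⟨_, mem_top _, rfl⟩
  rw [← commutatorElement_eq_one_iff_commute, ← map_commutatorElement] at hcomm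
  have := mem_center_iff.mp ((QuotientGroup.eq_one_iff _).mp hcomm)
  exact fun y hy => congrArg Subtype.val (this ⟨y, hy⟩)

/-- A member of the `D*`-family centralises every abelian subgroup it normalizes. -/
theorem member_centralizes [Finite S] {p : ℕ} [Fact p.Prime] (hS : IsPGroup p S) {A V : Subgroup S}
    (hA : A ∈ Cfsg.dStarFamily S) (hV : IsMulCommutative V) (hAV : A ≤ normalizer (V : Set S)) :
    A ≤ centralizer (V : Set S) := by
  rw [le_centralizer_iff]
  by_contra hle
  have hlt : V ⊓ centralizer (A : Set S) < V :=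
    lt_of_le_of_ne inf_le_left fun h => hle (inf_eq_left.mp h)
  have hinv : A ≤ normalizer ((V ⊓ centralizer (A : Set S) : Subgroup S) : Set S) := by
    intro a ha
    rw [mem_normalizer_iff_conj_eq, Subgroup.map_inf _ _ _ (MulAut.conj a).injective,
      mem_normalizer_iff_conj_eq.mp (hAV ha), ← centralizer_conj,
      mem_normalizer_iff_conj_eq.mp (le_normalizer ha)]
  obtain ⟨x, hxV, hx, hu⟩ := exists_fixed_mod hS hAV hlt hinv
    (le_inf inf_le_right fun y hy z hz => comm_of hA.1 hz hy.1)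
  have hcomm := hA.2 x (class_two hA.1 (fun a ha b hb => ((hu a ha).2 b hb).symm)
    (fun a ha => comm_of hV (hu a ha).1 hxV))
  exact hx ⟨hxV, hcomm⟩

theorem center_mem : center S ∈ Cfsg.dStarFamily S :=
  ⟨inferInstance, fun x _ a ha => ((mem_center_iff.mp ha) x).symm⟩

/-- A maximal normal abelian subgroup of a `p`-group is self-centralising. -/
theorem centralizer_le_of_maximal [Finite S] {p : ℕ} [Fact p.Prime] (hS : IsPGroup p S) {N : Subgroup S}
    (hn : N.Normal) (hc : IsMulCommutative N)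
    (hmax : ∀ B : Subgroup S, B.Normal → IsMulCommutative B → N ≤ B → B = N) :
    centralizer (N : Set S) ≤ N := by
  by_contra hle
  let f := QuotientGroup.mk' N
  have hCn : (centralizer (N : Set S)).Normal := inferInstance
  have : ((centralizer (N : Set S)).map f).Normal := hCn.map f (QuotientGroup.mk'_surjective N)
  have hne : (centralizer (N : Set S)).map f ≠ ⊥ := by
    intro h
    apply hle
    rwa [Subgroup.map_eq_bot_iff, QuotientGroup.ker_mk'] at h
  have hne2 := Cfsg.Agent.Lib.PGroups.normal_inf_center_ne_bot (hS.to_quotient N) _ hne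
  rw [Subgroup.ne_bot_iff_exists_ne_one] at hne2
  obtain ⟨⟨_, ⟨y, hy, rfl⟩, hyc⟩, hy1⟩ := hne2
  have hB : (N ⊔ zpowers y).Normal := by
    refine ⟨fun z hz s => ?_⟩
    suffices h : N ⊔ zpowers y ≤ (N ⊔ zpowers y).comap (MulAut.conj s).toMonoidHom from h hz
    refine sup_le (fun n hn' => mem_sup_left (hn.conj_mem n hn' s)) (zpowers_le.mpr ?_)
    show s * y * s⁻¹ ∈ N ⊔ zpowers y
    have h1 : s * y * s⁻¹ * y⁻¹ ∈ N := by
      rw [← QuotientGroup.eq_one_iff]
      show f (s * y * s⁻¹ * y⁻¹) = 1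
      simp only [map_mul, map_inv]
      rw [mem_center_iff.mp hyc (f s)]
      group
    have := mul_mem (mem_sup_left (T := zpowers y) h1) (mem_sup_right (S := N) (mem_zpowers y))
    rwa [inv_mul_cancel_right] at this
  have hBc : IsMulCommutative ↥(N ⊔ zpowers y) := by
    refine isMulCommutative_sup hc inferInstance fun a ha b hb => ?_
    obtain ⟨k, rfl⟩ := mem_zpowers_iff.mp hb
    exact ((show Commute a y from hy a ha).zpow_right k).eq
  refine hy1 (Subtype.ext ((QuotientGroup.eq_one_iff y).mpr ?_))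
  rw [← hmax _ hB hBc le_sup_left]
  exact mem_sup_right (mem_zpowers y)

theorem exists_maximal_normal_abelian [Finite S] : ∃ N : Subgroup S, N.Normal ∧ IsMulCommutative N ∧
    ∀ B : Subgroup S, B.Normal → IsMulCommutative B → N ≤ B → B = N := by
  obtain ⟨N, ⟨hn, hc⟩, hmax⟩ := Set.Finite.exists_maximal
    (s := {B : Subgroup S | B.Normal ∧ IsMulCommutative B}) (Set.toFinite _) ⟨⊥, inferInstance, inferInstance⟩
  exact ⟨N, hn, hc, fun B h1 h2 h3 => le_antisymm (hmax ⟨h1, h2⟩ h3) h3⟩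

theorem dStar_le_maximal [Finite S] {p : ℕ} [Fact p.Prime] (hS : IsPGroup p S) {N : Subgroup S}
    (hn : N.Normal) (hc : IsMulCommutative N)
    (hmax : ∀ B : Subgroup S, B.Normal → IsMulCommutative B → N ≤ B → B = N) :
    Cfsg.dStar S ≤ N :=
  sSup_le fun _ hA => (member_centralizes hS hA hc (by rw [normalizer_eq_top]; exact le_top)).trans
    (centralizer_le_of_maximal hS hn hc hmax)

theorem dStar_comm [Finite S] {p : ℕ} [Fact p.Prime] (hS : IsPGroup p S) :
    IsMulCommutative ↥(Cfsg.dStar S) := by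
  obtain ⟨N, hn, hc, hmax⟩ := exists_maximal_normal_abelian (S := S)
  have h := dStar_le_maximal hS hn hc hmax
  exact ⟨⟨fun a b => Subtype.ext (comm_of hc (h a.2) (h b.2))⟩⟩

theorem dStar_mem [Finite S] {p : ℕ} [Fact p.Prime] (hS : IsPGroup p S) :
    Cfsg.dStar S ∈ Cfsg.dStarFamily S := by
  refine ⟨dStar_comm hS, fun x hx => ?_⟩
  suffices h : Cfsg.dStar S ≤ centralizer {x} from fun a ha =>
    (mem_centralizer_singleton_iff.mp (h ha))
  refine sSup_le fun A hA a ha => ?_
  have hle : A ⊔ zpowers x ≤ Cfsg.dStar S ⊔ zpowers x := sup_le_sup_right (le_sSup hA) _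
  refine mem_centralizer_singleton_iff.mpr (hA.2 x ?_ a ha)
  rw [← le_bot_iff, ← hx]
  exact commutator_mono (commutator_mono hle hle) hle

theorem family_conj {A : Subgroup S} (hA : A ∈ Cfsg.dStarFamily S) (g : S) :
    A.map (MulAut.conj g).toMonoidHom ∈ Cfsg.dStarFamily S := by
  have := hA.1
  refine ⟨inferInstance, ?_⟩
  intro x hx
  rintro _ ⟨a, ha, rfl⟩
  have hx' := congrArg (Subgroup.map (MulAut.conj g⁻¹).toMonoidHom) hx
  rw [map_commutator, map_commutator, Subgroup.map_sup, map_conj_mul, inv_mul_cancel, map_conj_one,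
    MonoidHom.map_zpowers, Subgroup.map_bot] at hx'
  have h := congrArg (MulAut.conj g) (hA.2 _ hx' a ha)
  simpa [mul_assoc] using h

theorem dStar_normal : (Cfsg.dStar S).Normal := by
  refine ⟨fun x hx g => ?_⟩
  have : Cfsg.dStar S ≤ (Cfsg.dStar S).comap (MulAut.conj g).toMonoidHom :=
    sSup_le fun A hA => map_le_iff_le_comap.mp (le_sSup (family_conj hA g))
  exact this hx

theorem dStar_le_of_maxAbelian [Finite S] {p : ℕ} [Fact p.Prime] (hS : IsPGroup p S) {B : Subgroup S}
    (hB : B ∈ Cfsg.maxAbelianSubgroups S) : Cfsg.dStar S ≤ B := by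
  by_contra hnot
  have := dStar_normal (S := S)
  obtain ⟨C, ⟨hC, hCD⟩, hmax⟩ := Set.exists_max_image
    {C : Subgroup S | C ∈ Cfsg.maxAbelianSubgroups S ∧ ¬ Cfsg.dStar S ≤ C}
    (fun C => Nat.card ↥(C ⊓ Cfsg.dStar S)) (Set.toFinite _) ⟨B, hB, hnot⟩
  have hnorm : Cfsg.dStar S ≤ normalizer (C : Set S) := by
    by_contra hn
    obtain ⟨C', hC', hC'N, -, hlt⟩ := exists_replacement hS hC (dStar_comm hS)
      (by rw [normalizer_eq_top]; exact le_top) hn
    refine hn ((by_contra fun h => ?_ : Cfsg.dStar S ≤ C').trans hC'N)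
    exact hlt.ne (Subgroup.eq_of_le_of_card_ge hlt.le (hmax C' ⟨hC', h⟩))
  have hcomm := member_centralizes hS (dStar_mem hS) hC.1 hnorm
  have hsup := isMulCommutative_sup hC.1 (dStar_comm hS) fun c hc d hd => hcomm hd c hc
  exact hCD (le_sup_right.trans (Subgroup.eq_of_le_of_card_ge le_sup_left (hC.2 _ hsup)).ge)

end Cfsg.Agent.Lib.LA5.DStar
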